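import Cfsg.Agent.SporRec.TwoSp6.Lift
set_option linter.all false

/-!
# Every non-split double cover of `Sp₆(2)` satisfies the relations `Rels`
-/

set_option autoImplicit false

namespace Cfsg.Agent.SporRec.TwoSp6.Main

open Cfsg.Agent.SporRec.TwoSp6.Cox Cfsg.Agent.SporRec.TwoSp6.Sp Cfsg.Agent.SporRec.TwoSp6.Lift

section Ext

variable {C : Type*} [Group C] {z : C} {π : C →* S} (E : Ext z π)

include E

theorem Ext.zl (p q : C) : (z * p) * q = z * (p * q) := mul_assoc _ _ _

theorem Ext.zr (p q : C) : p * (z * q) = z * (p * q) := by rw [← mul_assoc, ← E.z_comm, mul_assoc]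

/-- Lifts of the seven transvections with exact braid relations and `(∏ a)⁹ = 1`. -/
theorem Ext.exists_lifts : ∃ a : Fin 7 → C, (∀ i, π (a i) = tr (v i)) ∧
    (∀ i j, m7 i j = 3 → a i * a j * a i = a j * a i * a j) ∧ prod7 a ^ 9 = 1 := by
  have hv : ∀ i j, m7 i j = 3 → om (v i) (v j) = 1 := by
    intro i j h
    rw [om_v', if_pos h]
  obtain ⟨a0, h0⟩ := E.surj (tr (v 0))
  obtain ⟨a2, h2, b2⟩ := E.exists_braid (hv 0 2 rfl) h0
  obtain ⟨a3, h3, b3⟩ := E.exists_braid (hv 2 3 rfl) h2
  obtain ⟨a1, h1, b1⟩ := E.exists_braid (hv 3 1 rfl) h3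
  obtain ⟨a4, h4, b4⟩ := E.exists_braid (hv 3 4 rfl) h3
  obtain ⟨a5, h5, b5⟩ := E.exists_braid (hv 4 5 rfl) h4
  obtain ⟨a6, h6, b6⟩ := E.exists_braid (hv 5 6 rfl) h5
  set a : Fin 7 → C := ![a0, a1, a2, a3, a4, a5, a6] with ha
  have hπ : ∀ i, π (a i) = tr (v i) := by
    intro i
    fin_cases i
    exacts [h0, h1, h2, h3, h4, h5, h6]
  have hb : ∀ i j, m7 i j = 3 → a i * a j * a i = a j * a i * a j := by
    intro i j
    fin_cases i <;> fin_cases j <;> intro h
    all_goals first
      | exact absurd h (by decide)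
      | exact b2
      | exact b2.symm
      | exact b3
      | exact b3.symm
      | exact b1
      | exact b1.symm
      | exact b4
      | exact b4.symm
      | exact b5
      | exact b5.symm
      | exact b6
      | exact b6.symm
  have hP : π (prod7 a ^ 9) = 1 := by
    rw [map_pow, map_prod7, ← prod7_pow]
    simp only [hπ]
  rcases E.ker _ hP with h | h
  · exact ⟨a, hπ, hb, h⟩
  · refine ⟨fun i => z * a i, fun i => by rw [map_mul, E.map_z, one_mul, hπ], ?_, ?_⟩
    · intro i j hij
      have := hb i j hij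
      simp only [Ext.zl E, Ext.zr E]
      rw [this]
    · have e : prod7 (fun i => z * a i) = z * prod7 a := by
        have e1 : prod7 (fun i => z * a i) = z * (z * (z * (z * (z * (z * (z * prod7 a)))))) := by
          unfold prod7
          simp only [Ext.zl E, Ext.zr E]
        rw [e1]
        have hzz : ∀ g, z * (z * g) = g := fun g => by rw [← mul_assoc, E.z_sq, one_mul]
        rw [hzz, hzz, hzz]
      rw [e, (show Commute z (prod7 a) from E.z_comm _).mul_pow, h]
      have hz9 : z ^ 9 = z := by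
        rw [show (9 : ℕ) = 2 * 4 + 1 from rfl, pow_succ, pow_mul, pow_two, E.z_sq, one_pow, one_mul]
      rw [hz9, E.z_sq]

theorem Ext.gen_of {a : Fin 7 → C} (hπ : ∀ i, π (a i) = tr (v i)) (hz : z ∈ Subgroup.closure (Set.range a)) :
    Subgroup.closure (Set.range a) = ⊤ := by
  rw [eq_top_iff]
  intro g _
  have h1 : (Subgroup.closure (Set.range a)).map π = ⊤ := by
    rw [MonoidHom.map_closure, ← Set.range_comp]
    have : (π ∘ a) = fun i => tr (v i) := funext hπ
    rw [this, closure_v]
  have h2 : π g ∈ (Subgroup.closure (Set.range a)).map π := by rw [h1]; exact Subgroup.mem_top _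
  obtain ⟨x, hx, hxg⟩ := h2
  rcases E.eq_or hxg with h | h
  · rw [h]; exact hx
  · rw [h]; exact mul_mem hz hx

theorem Ext.card_eq [Finite C] : Nat.card C = 2903040 := by
  have h1 : Nat.card C = Nat.card (C ⧸ π.ker) * Nat.card π.ker :=
    Subgroup.card_eq_card_quotient_mul_card_subgroup _
  have h2 : Nat.card (C ⧸ π.ker) = 1451520 := by
    rw [← card_S]
    exact Nat.card_congr (QuotientGroup.quotientKerEquivOfSurjective π E.surj).toEquiv
  have h3 : π.ker = Subgroup.zpowers z := by
    ext g
    rw [MonoidHom.mem_ker, mem_zpowers E.z_sq]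
    constructor
    · exact E.ker g
    · rintro (rfl | rfl)
      · exact map_one π
      · exact E.map_z
  rw [h1, h2, h3, card_zpowers E.z_ne E.z_sq]

/-- The main theorem for central extensions. -/
theorem Ext.exists_rels [Finite C] (hns : ∀ L : Subgroup C, ¬ (Subgroup.zpowers z).IsComplement' L) :
    ∃ a : Fin 7 → C, (∀ i, π (a i) = tr (v i)) ∧ Rels z a := by
  obtain ⟨ε, hε, h1⟩ := E.exists_eps
  obtain ⟨δ, hδ, h2⟩ := E.exists_del
  have hεδ := E.eps_eq_del hε hδ h1 h2
  obtain ⟨a, hπ, hb, h9⟩ := Ext.exists_lifts E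
  have hsq : ∀ i, a i * a i = ε := fun i => h1 _ (v_ne i) _ (hπ i)
  have vne : ∀ i j : Fin 7, m7 i j = 2 → v j ≠ v i := by decide +kernel
  have hcomm : ∀ i j, m7 i j = 2 → a i * a j = ε * (a j * a i) := by
    intro i j hij
    rw [hεδ]
    refine h2 _ _ (v_ne i) (v_ne j) (vne i j hij) ?_ _ _ (hπ i) (hπ j)
    rw [om_v', if_neg (by rw [hij]; decide)]
  rcases hε with rfl | rfl
  · -- the split case
    exfalso
    set R := Subgroup.closure (Set.range a) with hR
    have hmem : ∀ i, a i ∈ R := fun i => Subgroup.subset_closure ⟨i, rfl⟩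
    set b : Fin 7 → R := fun i => ⟨a i, hmem i⟩ with hbd
    have hgen : Subgroup.closure (Set.range b) = ⊤ := by
      rw [eq_top_iff]
      rintro ⟨x, hx⟩ -
      rw [hR] at hx
      have key : ∀ y (hy : y ∈ Subgroup.closure (Set.range a)),
          (⟨y, hR ▸ hy⟩ : R) ∈ Subgroup.closure (Set.range b) := by
        intro y hy
        induction hy using Subgroup.closure_induction with
        | one => exact one_mem _
        | mem y hy =>
          obtain ⟨i, rfl⟩ := hy
          exact Subgroup.subset_closure ⟨i, rfl⟩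
        | mul x y hx hy ihx ihy => exact mul_mem ihx ihy
        | inv x hx ihx => exact inv_mem ihx
      exact key x hx
    obtain ⟨fR, cR⟩ := Cox.card_le b (liftable_of _ (fun i => Subtype.ext (hsq i))
      (fun i j hij => Subtype.ext (by
        have := hcomm i j hij
        rw [one_mul] at this
        exact this))
      (fun i j hij => Subtype.ext (hb i j hij))) (Subtype.ext h9) hgen
    have hsurj : Function.Surjective (π.comp R.subtype) := by
      rw [← MonoidHom.range_eq_top, eq_top_iff, ← closure_v, Subgroup.closure_le]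
      rintro _ ⟨i, rfl⟩
      exact ⟨b i, hπ i⟩
    have hcard : Nat.card R = Nat.card S :=
      le_antisymm (by rw [card_S]; exact cR) (Nat.card_le_card_of_surjective _ hsurj)
    have hbij := (Nat.bijective_iff_surjective_and_card (π.comp R.subtype)).2 ⟨hsurj, hcard⟩
    apply hns R
    apply Subgroup.isComplement'_of_card_mul_and_disjoint
    · rw [card_zpowers E.z_ne E.z_sq, hcard, card_S, Ext.card_eq E]
    · rw [Subgroup.disjoint_def]
      intro x hx hxR
      rcases (mem_zpowers E.z_sq).1 hx with rfl | rfl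
      · rfl
      · exfalso
        have : (⟨x, hxR⟩ : R) = 1 := hbij.1 (by
          rw [map_one]
          exact E.map_z)
        exact E.z_ne (congrArg Subtype.val this)
  · refine ⟨a, hπ, ⟨E.z_ne, E.z_sq, E.z_comm, hsq, hcomm, hb, h9, ?_⟩⟩
    apply Ext.gen_of E hπ
    rw [← hsq 0]
    exact mul_mem (Subgroup.subset_closure ⟨0, rfl⟩) (Subgroup.subset_closure ⟨0, rfl⟩)

end Ext

/-- A group with centre of order two: the central involution. -/
theorem exists_center {C : Type*} [Group C] (h : Nat.card (Subgroup.center C) = 2) :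
    ∃ z : C, z ≠ 1 ∧ z * z = 1 ∧ (∀ g, z * g = g * z) ∧ ∀ g, g ∈ Subgroup.center C ↔ g = 1 ∨ g = z := by
  have hf : Finite (Subgroup.center C) := Nat.finite_of_card_ne_zero (by rw [h]; norm_num)
  obtain ⟨x, y, hxy, huniv⟩ := Nat.card_eq_two_iff.1 h
  have hall : ∀ w : Subgroup.center C, w = x ∨ w = y := by
    intro w
    have : w ∈ ({x, y} : Set (Subgroup.center C)) := by rw [huniv]; exact Set.mem_univ _
    simpa using this
  obtain ⟨c, hc, hall'⟩ : ∃ c : Subgroup.center C, c ≠ 1 ∧ ∀ w, w = 1 ∨ w = c := by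
    rcases hall 1 with h1 | h1
    · exact ⟨y, by rw [h1]; exact hxy.symm, fun w => by rw [h1]; exact hall w⟩
    · exact ⟨x, by rw [h1]; exact hxy, fun w => by rw [h1]; exact (hall w).symm⟩
  refine ⟨c, fun h => hc (Subtype.ext h), ?_, fun g => (Subgroup.mem_center_iff.1 c.2 g).symm, ?_⟩
  · rcases hall' (c * c) with h2 | h2
    · exact congrArg Subtype.val h2
    · exact absurd (mul_eq_left.1 h2) hc
  · intro g
    constructor
    · intro hg
      rcases hall' ⟨g, hg⟩ with h2 | h2
      · exact Or.inl (congrArg Subtype.val h2)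
      · exact Or.inr (congrArg Subtype.val h2)
    · rintro (rfl | rfl)
      · exact one_mem _
      · exact c.2

/-- **Structure of the non-split double covers of `Sp₆(2)`.** -/
theorem exists_rels {C : Type*} [Group C] [Finite C]
    (h : Cfsg.IsNonsplitDoubleCover C (Matrix.symplecticGroup (Fin 3) (ZMod 2))) :
    ∃ (z : C) (π : C →* S) (a : Fin 7 → C), (∀ g, g ∈ Subgroup.center C ↔ g = 1 ∨ g = z) ∧ Ext z π ∧
      (∀ i, π (a i) = tr (v i)) ∧ Rels z a ∧ Nat.card C = 2903040 := by
  obtain ⟨h1, ⟨e⟩, h3⟩ := h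
  obtain ⟨z, z1, z2, z3, z4⟩ := exists_center h1
  have E : Ext z (e.toMonoidHom.comp (QuotientGroup.mk' (Subgroup.center C))) := by
    refine ⟨?_, z1, z2, z3, ?_, ?_⟩
    · exact e.surjective.comp (QuotientGroup.mk'_surjective _)
    · intro g hg
      have h4 : e (QuotientGroup.mk' (Subgroup.center C) g) = 1 := hg
      rw [map_eq_one_iff e e.injective, ← MonoidHom.mem_ker, QuotientGroup.ker_mk'] at h4
      exact (z4 g).1 h4
    · show e (QuotientGroup.mk' (Subgroup.center C) z) = 1
      rw [map_eq_one_iff e e.injective, ← MonoidHom.mem_ker, QuotientGroup.ker_mk']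
      exact (z4 z).2 (Or.inr rfl)
  have hzc : Subgroup.zpowers z = Subgroup.center C := by
    ext g
    rw [mem_zpowers z2, z4]
  obtain ⟨a, ha, R⟩ := Ext.exists_rels E (by rw [hzc]; exact h3)
  exact ⟨z, _, a, z4, E, ha, R, Ext.card_eq E⟩

end Cfsg.Agent.SporRec.TwoSp6.Main
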