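import Cfsg.Agent.SporRec.TwoSp6.CInvol
import Cfsg.Agent.SporRec.Co3.Free
set_option linter.all false

/-!
# The data `KData` of the closing argument for the non-split double cover of `Sp₆(2)`
-/

set_option autoImplicit false

namespace Cfsg.Agent.SporRec.TwoSp6.KOf

open Cfsg.Agent.SporRec.TwoSp6.Cox Cfsg.Agent.SporRec.TwoSp6.Sp Cfsg.Agent.SporRec.TwoSp6.Lift
  Cfsg.Agent.SporRec.TwoSp6.Main Cfsg.Agent.SporRec.TwoSp6.Invol Cfsg.Agent.SporRec.TwoSp6.CInvol
open Cfsg.Agent.SporRec.Co3 (M3 M6 U sm q)

/-- The codes of the vectors whose transvections have product `U (sm a b c d e f)`. -/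
def codes (a b c d e f : ZMod 2) : List ℕ :=
  (if d = 1 then [3] else []) ++ ((if e = 1 then [5] else []) ++ ((if f = 1 then [6] else []) ++
  ((if a + d + e = 1 then [1] else []) ++ ((if b + d + f = 1 then [2] else []) ++
  (if c + e + f = 1 then [4] else [])))))

theorem codes_prod : ∀ a b c d e f : ZMod 2,
    ((codes a b c d e f).map fun c => (tr (enc c)).1).prod = U (sm a b c d e f) := by
  decide +kernel

theorem codes_q : ∀ a b c d e f : ZMod 2, (if q (sm a b c d e f) = 0 then true else false) =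
    (((codes a b c d e f).length * ((codes a b c d e f).length - 1) / 2 + (codes a b c d e f).length) % 2 == 0) := by
  decide +kernel

theorem codes_pw : ∀ a b c d e f : ZMod 2, (codes a b c d e f).Pairwise fun c d =>
    enc c ≠ 0 ∧ enc d ≠ 0 ∧ enc d ≠ enc c ∧ fN c d = false := by
  decide +kernel

theorem codes_ne : ∀ a b c d e f : ZMod 2, ∀ k ∈ codes a b c d e f, enc k ≠ 0 := by
  decide +kernel

variable {C : Type*} [Group C] {z : C} {π : C →* S}

/-- Squares of the elements over the unipotent radical of the stabiliser of a maximal isotropic subspace. -/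
theorem NS.sqU (N : NS z π) (x : C) (M : M3) (hM : M.IsSymm) (hx : (π x : M6) = U M) :
    x * x = if q M = 0 then 1 else z := by
  choose l hl using fun c : ℕ => N.surj (tr (enc c))
  have hMs := Cfsg.Agent.SporRec.Co3.eq_sm hM
  generalize M 0 0 = a at hMs
  generalize M 1 1 = b at hMs
  generalize M 2 2 = c at hMs
  generalize M 0 1 = d at hMs
  generalize M 0 2 = e at hMs
  generalize M 1 2 = f at hMs
  subst hMs
  have h1 := codes_prod a b c d e f
  have h2 := codes_q a b c d e f
  have h3 := codes_pw a b c d e f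
  have h4 := codes_ne a b c d e f
  generalize codes a b c d e f = L at h1 h2 h3 h4
  have k1 : π (L.map l).prod = π x := by
    apply Subtype.ext
    rw [hx, ← h1, map_list_prod, List.map_map, Submonoid.coe_list_prod, List.map_map]
    congr 1
    exact List.map_congr_left fun c _ => congrArg Subtype.val (hl c)
  have k2 := N.toExt.sq_prod (ε := z) (δ := z) (Or.inr rfl) (Or.inr rfl) (L.map l)
    (by
      rw [List.pairwise_map]
      refine h3.imp ?_
      rintro c d ⟨q1, q2, q3, q4⟩
      refine N.anti _ _ q1 q2 q3 ?_ _ _ (hl c) (hl d)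
      rw [om_enc, q4]; rfl)
    (by
      intro y hy
      obtain ⟨c, hc, rfl⟩ := List.mem_map.1 hy
      exact N.sq _ (h4 c hc) _ (hl c))
  rw [List.length_map, ← pow_add] at k2
  have k3 : x * x = z ^ (L.length * (L.length - 1) / 2 + L.length) := by
    rcases N.toExt.eq_or k1 with h | h
    · rw [h, k2]
    · rw [h, N.toExt.z_mul_sq, k2]
  rw [k3]
  generalize L.length * (L.length - 1) / 2 + L.length = n at h2
  have hz : z ^ n = z ^ (n % 2) := by
    conv_lhs => rw [← Nat.div_add_mod n 2]
    rw [pow_add, pow_mul, pow_two, N.z_sq, one_pow, one_mul]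
  rw [hz]
  split_ifs with hq
  · rw [if_pos hq] at h2
    have h5 : n % 2 = 0 := by simpa using h2.symm
    rw [h5, pow_zero]
  · rw [if_neg hq] at h2
    have h5 : n % 2 = 1 := by
      have : ¬ n % 2 = 0 := by
        intro h0
        rw [h0] at h2
        simp at h2
      omega
    rw [h5, pow_one]

/-- Type B elements are conjugate to elements over `U 1`. -/
theorem NS.exists_U (N : NS z π) {x : C} (h : IsB π x) : ∃ c, (π (c * x * c⁻¹) : M6) = U 1 := by
  obtain ⟨u, w, t, hi, ho, ex⟩ := h
  obtain ⟨g, g1, g2, g3⟩ := exists_triple hi ho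
    (show Ind (enc 1) (enc 2) (enc 4) by decide +kernel)
    ⟨(om_enc 1 2).trans (by decide), (om_enc 1 4).trans (by decide), (om_enc 2 4).trans (by decide)⟩
  obtain ⟨c, hc⟩ := N.surj g
  refine ⟨c, ?_⟩
  have e1 : π (c * x * c⁻¹) = tr (enc 1) * tr (enc 2) * tr (enc 4) := by
    rw [map_mul, map_mul, map_inv, hc, ex, ← g1, ← g2, ← g3, ← conj_tr, ← conj_tr, ← conj_tr]
    group
  rw [e1, b3_matrix]
  rfl

/-- Elements over `U 1` are of type B. -/
theorem isB_of_U {x : C} (h : (π x : M6) = U 1) : IsB π x := by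
  refine ⟨enc 1, enc 2, enc 4, by decide +kernel,
    ⟨(om_enc 1 2).trans (by decide), (om_enc 1 4).trans (by decide), (om_enc 2 4).trans (by decide)⟩, ?_⟩
  apply Subtype.ext
  rw [h, b3_matrix]
  rfl

/-- The structure used in the closing argument. -/
theorem NS.kdata (N : NS z π) (Z : C → Prop) (hz : Z z) (hc : ∀ x c, Z x → Z (c * x * c⁻¹))
    (hA : ∀ x, IsA π x → Z x) (hB : ∀ x, IsB π x → ¬ Z x) : Cfsg.Agent.SporRec.Co3.KData π z Z where
  tc := N.z_comm
  tt := N.z_sq
  t1 := N.z_ne
  surj := N.surj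
  ker := N.ker
  pt := N.map_z
  sq := NS.sqU N
  Zt := hz
  Zconj := hc
  conjU := by
    intro x hx hx1 hZ
    have hxz : x ≠ z := by
      rintro rfl
      exact hZ hz
    rcases NS.invol N hx hx1 hxz with h | h
    · exact absurd (hA x h) hZ
    · exact NS.exists_U N h
  notz := fun x hx => hB x (isB_of_U hx)

end Cfsg.Agent.SporRec.TwoSp6.KOf
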